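import Mathlib
import Cfsg.Agent.Helper9.HeO.Abs

set_option autoImplicit false

/-! Abstract lemmas: the image under an automorphism of the involution in the centre of a Sylow
2-subgroup whose centre has two elements is a conjugate of the involution. -/

namespace Cfsg.Agent.Helper9.SuzO

/-- when the centre of a Sylow 2-subgroup consists of the neutral element and one more element,
every automorphism maps this element to a conjugate of it. -/
theorem aut_conj_of_center {X : Type*} [Group X] [Finite X] (S : Subgroup X)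
    (hcard : Nat.card S = 2 ^ (Nat.card X).factorization 2) (b : X) (hb : b ∈ S) (hb1 : b ≠ 1)
    (hbc : ∀ y ∈ S, b * y = y * b)
    (hcen : ∀ x ∈ S, (∀ y ∈ S, x * y = y * x) → x = 1 ∨ x = b)
    (β : MulAut X) : ∃ g : X, g * b * g⁻¹ = β b := by
  have : Fact (Nat.Prime 2) := ⟨Nat.prime_two⟩
  let P : Sylow 2 X := Sylow.ofCard S hcard
  have hQ : Nat.card (S.map β.toMonoidHom) = 2 ^ (Nat.card X).factorization 2 := by
    rw [Subgroup.card_map_of_injective (f := β.toMonoidHom) β.injective]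
    exact hcard
  let Q : Sylow 2 X := Sylow.ofCard (S.map β.toMonoidHom) hQ
  obtain ⟨g, hg⟩ := MulAction.exists_smul_eq X P Q
  have hPS : ∀ x : X, x ∈ (P : Subgroup X) ↔ x ∈ S := fun x => Iff.rfl
  have hQS : ∀ x : X, x ∈ (Q : Subgroup X) ↔ x ∈ S.map β.toMonoidHom := fun x => Iff.rfl
  have hmem : ∀ x : X, x ∈ S.map β.toMonoidHom ↔ ∃ s ∈ S, g * s * g⁻¹ = x := by
    intro x
    rw [← hQS, ← hg, Sylow.coe_subgroup_smul, Subgroup.mem_smul_pointwise_iff_exists]
    constructor
    · rintro ⟨s, hs, rfl⟩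
      exact ⟨s, (hPS s).mp hs, rfl⟩
    · rintro ⟨s, hs, rfl⟩
      exact ⟨s, (hPS s).mpr hs, rfl⟩
  have h1 : β b ∈ S.map β.toMonoidHom := Subgroup.mem_map.mpr ⟨b, hb, rfl⟩
  obtain ⟨s, hs, hsb⟩ := (hmem _).mp h1
  have hscen : ∀ y ∈ S, s * y = y * s := by
    intro y hy
    have h2 : g * y * g⁻¹ ∈ S.map β.toMonoidHom := (hmem _).mpr ⟨y, hy, rfl⟩
    obtain ⟨y', hy', hyy⟩ := Subgroup.mem_map.mp h2
    have h3 : β b * β y' = β y' * β b := by
      rw [← map_mul, ← map_mul, hbc y' hy']
    have hyy' : β y' = g * y * g⁻¹ := hyy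
    rw [← hsb, hyy'] at h3
    have h4 : g * (s * y) * g⁻¹ = g * (y * s) * g⁻¹ := by
      calc g * (s * y) * g⁻¹ = g * s * g⁻¹ * (g * y * g⁻¹) := by group
        _ = g * y * g⁻¹ * (g * s * g⁻¹) := h3
        _ = g * (y * s) * g⁻¹ := by group
    exact mul_left_cancel (mul_right_cancel h4)
  rcases hcen s hs hscen with h | h
  · exfalso
    apply hb1
    rw [h, mul_one, mul_inv_cancel] at hsb
    have : β b = β 1 := by rw [← hsb, map_one]
    exact β.injective this
  · rw [h] at hsb
    exact ⟨g, hsb⟩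

end Cfsg.Agent.Helper9.SuzO
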