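import Mathlib
import Cfsg.Agent.Helper9.SuzO.Perm
import Cfsg.Agent.Helper9.SuzO.DataA

set_option autoImplicit false
set_option Elab.async false

/-! The element of order thirteen, the first letter and the involution of the points that
normalizes the group of Suzuki on 1782 points. -/

namespace Cfsg.Agent.Helper9.SuzO

open Cfsg.Agent.Helper9.J3

/-- the image of a point under a power of the element of order thirteen. -/
def aF (i x : ℕ) : ℕ := lk12 (nthL apL i) x

/-- the element of order thirteen. -/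
def aG : ↥SuzP := ⟨permW aW, permW_mem _⟩

/-- the first letter. -/
def bG : ↥SuzP := ⟨P 0, P_mem 0⟩

set_option maxRecDepth 1000000 in
theorem aW_tab_b : chkWord aW apT1 = true := by decide +kernel

set_option maxRecDepth 1000000 in
theorem ap_step_b : allB (fun i => chkMul (nthL apL (Nat.succ i)) apT1 (nthL apL i)) 13 = true := by
  decide +kernel

set_option maxRecDepth 1000000 in
theorem ap_zero_b : chkId apT0 = true := by decide +kernel

set_option maxRecDepth 1000000 in
theorem ap_last_b : chkId apT13 = true := by decide +kernel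

theorem aW_letters : ∀ l ∈ aW, l < 7 := by decide

theorem aG_apply (p : Fin nP) : ((aG : Equiv.Perm (Fin nP)) p).val = aF 1 p.val := by
  change (permW aW p).val = lk12 apT1 p.val
  rw [permW_val aW aW_letters]
  exact chkWord_true aW_tab_b p.isLt

theorem aF_zero {x : ℕ} (hx : x < nP) : aF 0 x = x := chkId_true ap_zero_b hx

theorem aF_last {x : ℕ} (hx : x < nP) : aF 13 x = x := chkId_true ap_last_b hx

theorem aF_succ {i : ℕ} (hi : i < 13) {x : ℕ} (hx : x < nP) : aF (i + 1) x = aF 1 (aF i x) :=
  chkMul_true (allB_true ap_step_b hi) hx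

theorem aG_pow_apply (i : ℕ) (hi : i ≤ 13) (p : Fin nP) :
    (((aG ^ i : ↥SuzP) : Equiv.Perm (Fin nP)) p).val = aF i p.val := by
  induction i with
  | zero =>
    rw [pow_zero, aF_zero p.isLt]
    rfl
  | succ i ih =>
    rw [pow_succ', Subgroup.coe_mul, Equiv.Perm.mul_apply, aG_apply, ih (by omega),
      aF_succ (by omega) p.isLt]

theorem aG_pow13 : aG ^ 13 = 1 := by
  apply Subtype.ext
  apply perm_ext
  intro p
  rw [aG_pow_apply 13 le_rfl, aF_last p.isLt]
  rfl

theorem aG_ne_one : aG ≠ 1 := by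
  intro h
  have h1 := aG_apply (0 : Fin nP)
  rw [h] at h1
  revert h1
  change ¬ (0 = aF 1 0)
  decide +kernel

theorem order_aG : orderOf aG = 13 := by
  have : Fact (Nat.Prime 13) := ⟨by norm_num⟩
  exact orderOf_eq_prime aG_pow13 aG_ne_one

theorem aG_pow_inv {i : ℕ} (hi : i ≤ 13) : (aG ^ i)⁻¹ = aG ^ (13 - i) := by
  rw [inv_eq_iff_mul_eq_one, ← pow_add, Nat.add_sub_cancel' hi, aG_pow13]

theorem aG_pow_inv_apply {i : ℕ} (hi : i ≤ 13) (p : Fin nP) :
    ((((aG ^ i)⁻¹ : ↥SuzP) : Equiv.Perm (Fin nP)) p).val = aF (13 - i) p.val := by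
  rw [aG_pow_inv hi, aG_pow_apply _ (by omega)]

theorem bG_apply (p : Fin nP) : ((bG : Equiv.Perm (Fin nP)) p).val = tabF 0 p.val := by
  change (P 0 p).val = _
  rw [P_apply, tab_of_lt (by norm_num)]

theorem bG_mul_self : bG * bG = 1 := Subtype.ext (P_mul_self 0)

theorem bG_inv : bG⁻¹ = bG := inv_eq_of_mul_eq_one_left bG_mul_self

theorem bG_ne_one : bG ≠ 1 := by
  intro h
  have h1 := bG_apply (⟨2, by norm_num⟩ : Fin nP)
  rw [h] at h1
  revert h1
  change ¬ (2 = tabF 0 2)
  decide +kernel

theorem order_bG : orderOf bG = 2 := by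
  apply orderOf_eq_prime
  · rw [pow_two]
    exact bG_mul_self
  · exact bG_ne_one

/-! ### the involution of the points -/

/-- the image of a point under the involution of the points. -/
def xF (x : ℕ) : ℕ := lk12 xT x

/-- the letters exchanged by the involution of the points. -/
def swL : List ℕ := [0, 1, 2, 3, 4, 6, 5]

/-- the check of the table of the involution of the points. -/
def xChk (x : ℕ) : Bool :=
  andB (Nat.ble (xF x) 1781) (Nat.beq (sapp xF (xF x)) x)

set_option maxRecDepth 1000000 in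
theorem x_ok_b : allB xChk nP = true := by decide +kernel

/-- the check that the involution of the points exchanges the letters. -/
def xConjChk (l : ℕ) : Bool :=
  allB (fun x => Nat.beq (sapp xF (sapp (tabF l) (xF x))) (tabF (nthL swL l) x)) nP

set_option maxRecDepth 1000000 in
theorem x_conj_b : allB xConjChk 7 = true := by decide +kernel

theorem xF_lt {x : ℕ} (hx : x < nP) : xF x < nP :=
  Nat.lt_succ_of_le (Nat.le_of_ble_eq_true (andB_true (allB_true x_ok_b hx)).1)

theorem xF_xF {x : ℕ} (hx : x < nP) : xF (xF x) = x := by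
  have h := (andB_true (allB_true x_ok_b hx)).2
  rw [sapp_eq] at h
  exact Nat.eq_of_beq_eq_true h

/-- the involution of the points. -/
def X : Equiv.Perm (Fin nP) where
  toFun x := ⟨xF x.val, xF_lt x.isLt⟩
  invFun x := ⟨xF x.val, xF_lt x.isLt⟩
  left_inv x := Fin.ext (xF_xF x.isLt)
  right_inv x := Fin.ext (xF_xF x.isLt)

theorem X_apply (x : Fin nP) : (X x).val = xF x.val := rfl

theorem X_mul_self : X * X = 1 := by
  apply Equiv.ext
  intro x
  exact Fin.ext (xF_xF x.isLt)

theorem X_inv : X⁻¹ = X := inv_eq_of_mul_eq_one_right X_mul_self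

theorem swL_lt {l : ℕ} (hl : l < 7) : nthL swL l < 7 := by
  interval_cases l <;> decide

theorem X_conj_P {l : ℕ} (hl : l < 7) : X * P l * X⁻¹ = P (nthL swL l) := by
  apply perm_ext
  intro p
  rw [X_inv, Equiv.Perm.mul_apply, Equiv.Perm.mul_apply, X_apply, P_apply, X_apply, P_apply,
    tab_of_lt hl, tab_of_lt (swL_lt hl)]
  have h := allB_true (allB_true x_conj_b hl) p.isLt
  rw [sapp_eq, sapp_eq] at h
  exact Nat.eq_of_beq_eq_true h

theorem conjX_mul (x y : Equiv.Perm (Fin nP)) :
    X * (x * y) * X⁻¹ = (X * x * X⁻¹) * (X * y * X⁻¹) := by group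

theorem conjX_inv (x : Equiv.Perm (Fin nP)) : X * x⁻¹ * X⁻¹ = (X * x * X⁻¹)⁻¹ := by group

/-- the involution of the points normalizes the group. -/
theorem conjX_mem {x : Equiv.Perm (Fin nP)} (hx : x ∈ SuzP) : X * x * X⁻¹ ∈ SuzP := by
  refine Subgroup.closure_induction (p := fun x _ => X * x * X⁻¹ ∈ SuzP) ?_ ?_ ?_ ?_ hx
  · rintro x ⟨l, rfl⟩
    change X * P l.val * X⁻¹ ∈ SuzP
    rw [X_conj_P l.isLt]
    exact P_mem _
  · rw [mul_one, mul_inv_cancel]
    exact SuzP.one_mem
  · intro x y _ _ hx hy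
    rw [conjX_mul]
    exact SuzP.mul_mem hx hy
  · intro x _ hx
    rw [conjX_inv]
    exact SuzP.inv_mem hx

theorem conjX_conjX (x : Equiv.Perm (Fin nP)) : X * (X * x * X⁻¹) * X⁻¹ = x := by
  rw [X_inv]
  calc X * (X * x * X) * X = (X * X) * x * (X * X) := by group
    _ = x := by rw [X_mul_self, one_mul, mul_one]

/-- conjugation by the involution of the points. -/
def tauX : MulAut ↥SuzP where
  toFun x := ⟨X * x.1 * X⁻¹, conjX_mem x.2⟩
  invFun x := ⟨X * x.1 * X⁻¹, conjX_mem x.2⟩
  left_inv x := Subtype.ext (conjX_conjX x.1)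
  right_inv x := Subtype.ext (conjX_conjX x.1)
  map_mul' x y := Subtype.ext (conjX_mul x.1 y.1)

theorem tauX_apply (x : ↥SuzP) : ((tauX x : ↥SuzP) : Equiv.Perm (Fin nP)) = X * x.1 * X⁻¹ := rfl

/-! ### the involution of the points is odd, the letters are even -/

/-- the number of fixed points of a table, as the kernel computes it. -/
def fixN (f : ℕ → ℕ) : ℕ := sumF (fun x => Bool.rec 0 1 (Nat.beq (f x) x)) nP

theorem card_fixedPoints_eq (σ : Equiv.Perm (Fin nP)) (f : ℕ → ℕ)
    (hf : ∀ p : Fin nP, (σ p).val = f p.val) :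
    Fintype.card (Function.fixedPoints σ) = fixN f := by
  have h := card_filter_fin (fun x => Nat.beq (f x) x) nP
  unfold fixN
  rw [← h, Fintype.card_subtype]
  apply congrArg Finset.card
  apply Finset.filter_congr
  intro q _
  constructor
  · intro hq
    have h1 : (σ q).val = q.val := congrArg Fin.val hq
    rw [hf] at h1
    rw [h1]
    exact Nat.beq_refl _
  · intro hq
    apply Fin.ext
    rw [hf]
    exact Nat.eq_of_beq_eq_true hq

set_option maxRecDepth 1000000 in
theorem fixX_b : Nat.beq (fixN xF) 100 = true := by decide +kernel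

set_option maxRecDepth 1000000 in
theorem fixP_b : allB (fun l => Nat.beq (Nat.land (Nat.sub 1782 (fixN (tabF l))) 3) 0) 7 = true := by
  decide +kernel

theorem sign_X : Equiv.Perm.sign X = -1 := by
  have h2 : X ^ 2 = 1 := by
    rw [pow_two]
    exact X_mul_self
  rw [Equiv.Perm.sign_of_pow_two_eq_one h2, card_fixedPoints_eq X xF X_apply,
    Nat.eq_of_beq_eq_true fixX_b, Fintype.card_fin]
  have h3 : (nP - 100) / 2 = 841 := by norm_num
  rw [h3]
  exact Odd.neg_one_pow (by decide)

theorem sign_P {l : ℕ} (hl : l < 7) : Equiv.Perm.sign (P l) = 1 := by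
  have h2 : P l ^ 2 = 1 := by
    rw [pow_two]
    exact P_mul_self l
  have hf : ∀ p : Fin nP, (P l p).val = tabF l p.val := by
    intro p
    rw [P_apply, tab_of_lt hl]
  rw [Equiv.Perm.sign_of_pow_two_eq_one h2, card_fixedPoints_eq (P l) (tabF l) hf,
    Fintype.card_fin]
  have h4 : Nat.land (Nat.sub 1782 (fixN (tabF l))) 3 = 0 :=
    Nat.eq_of_beq_eq_true (allB_true fixP_b hl)
  have h5 : (1782 - fixN (tabF l)) % 4 = 0 := by
    have : Nat.land (Nat.sub 1782 (fixN (tabF l))) 3 = (1782 - fixN (tabF l)) % 4 :=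
      Nat.and_two_pow_sub_one_eq_mod _ 2
    rw [← this]
    exact h4
  have h6 : Even ((1782 - fixN (tabF l)) / 2) := by
    rw [Nat.even_iff]
    omega
  exact h6.neg_one_pow

/-- the elements of the group are even. -/
theorem sign_of_mem {g : Equiv.Perm (Fin nP)} (hg : g ∈ SuzP) : Equiv.Perm.sign g = 1 := by
  refine Subgroup.closure_induction (p := fun g _ => Equiv.Perm.sign g = 1) ?_ ?_ ?_ ?_ hg
  · rintro y ⟨l, rfl⟩
    exact sign_P l.isLt
  · exact map_one _
  · intro x y _ _ hx hy
    rw [map_mul, hx, hy, mul_one]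
  · intro x _ hx
    rw [map_inv, hx, inv_one]

/-- the involution of the points is not in the group. -/
theorem X_not_mem : X ∉ SuzP := by
  intro h
  have h1 := sign_of_mem h
  rw [sign_X] at h1
  revert h1
  decide

end Cfsg.Agent.Helper9.SuzO
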