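import Mathlib
import Cfsg.Prelude
import Cfsg.Agent.Helper9.SuzO.Perm

set_option autoImplicit false
set_option Elab.async false
set_option maxRecDepth 100000

/-!
The group of Suzuki on 1782 points: if the presented group of Suzuki is simple of its order, so is
the group on 1782 points, and the two are isomorphic.
-/

namespace Cfsg.Agent.Helper9.SuzO

open Cfsg.Agent.Helper9.J3 Cfsg.Agent.Helper9.PChain Cfsg Cfsg.Spor

/-! ### words with the same action -/

theorem permW_congr {w w' : List ℕ} (hw : ∀ l ∈ w, l < 7) (hw' : ∀ l ∈ w', l < 7)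
    (h : ∀ x, x < nP → evalF w x = evalF w' x) : permW w = permW w' := by
  ext x
  rw [permW_apply, permW_apply, ← evalF_eq w hw, ← evalF_eq w' hw']
  exact h x.val x.isLt

/-- the word of a Coxeter relator. -/
def coxW (i j k : ℕ) : List ℕ := (List.replicate k [i, j]).flatten

theorem permW_coxW (i j k : ℕ) : permW (coxW i j k) = (P i * P j) ^ k := by
  induction k with
  | zero => rfl
  | succ k ih =>
    have e : coxW i j (k + 1) = [i, j] ++ coxW i j k := by
      unfold coxW
      rw [List.replicate_succ, List.flatten_cons]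
    rw [e, permW_append, ih, pow_succ']
    congr 1

/-- the labels of the Coxeter graph. -/
def labL : List (List ℕ) := [[1, 5, 2, 2, 2, 2, 2], [5, 1, 3, 2, 2, 3, 3], [2, 3, 1, 8, 2, 2, 2],
  [2, 2, 8, 1, 3, 2, 2], [2, 2, 2, 3, 1, 2, 2], [2, 3, 2, 2, 2, 1, 4], [2, 3, 2, 2, 2, 4, 1]]

/-- the label of two letters. -/
def lab (i j : ℕ) : ℕ := (labL.getD i []).getD j 0

/-- the word of the third further relation. -/
def relW1 : List ℕ := [0, 1, 2, 5, 0, 1, 2, 5, 0, 1, 2, 5, 0, 1, 2, 5, 0, 1, 2, 5]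

/-- the word of the fourth further relation. -/
def relW2 : List ℕ := [1, 5, 6, 1, 5, 6, 1, 5, 6, 1, 5, 6, 1, 5, 6]

/-- the word of the fifth further relation. -/
def relW3 : List ℕ := [1, 2, 3, 2, 3, 1, 2, 3, 2, 3, 1, 2, 3, 2, 3, 1, 2, 3, 2, 3, 1, 2, 3, 2, 3, 4, 1, 2, 3, 2, 3, 1, 2, 3, 2, 3, 1, 2, 3, 2, 3, 1, 2, 3, 2, 3, 1, 2, 3, 2, 3, 4, 1, 2, 3, 2, 3, 1, 2, 3, 2, 3, 1, 2, 3, 2, 3, 1, 2, 3, 2, 3, 1, 2, 3, 2, 3, 4]

/-- the pairs of words with the same action: the Coxeter relators and the further relations. -/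
def relPairs : List (List ℕ × List ℕ) :=
  ((List.range 7).flatMap fun i => (List.range 7).map fun j => (coxW i j (lab i j), [])) ++
  [([0], [2, 3, 2, 3, 2, 3, 2, 3]), ([0], [5, 6, 5, 6]), (relW1, []), (relW2, []), (relW3, [])]

theorem relPairs_letters : ∀ p ∈ relPairs, (∀ l ∈ p.1, l < 7) ∧ ∀ l ∈ p.2, l < 7 := by
  decide

set_option maxRecDepth 1000000 in
theorem relPairs_ok_b : relPairs.all (fun p =>
    allB (fun x => Nat.beq (evalF p.1 x) (evalF p.2 x)) nP) = true := by
  decide +kernel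

theorem relPairs_ok {p : List ℕ × List ℕ} (hp : p ∈ relPairs) : permW p.1 = permW p.2 := by
  obtain ⟨h1, h2⟩ := relPairs_letters p hp
  apply permW_congr h1 h2
  intro x hx
  exact Nat.eq_of_beq_eq_true (allB_true (List.all_eq_true.1 relPairs_ok_b p hp) hx)

theorem cox_mem : ∀ i j : Fin 7, (coxW i.val j.val (lab i.val j.val), []) ∈ relPairs := by
  decide

theorem cox_rel (i j : Fin 7) : (P i.val * P j.val) ^ lab i.val j.val = 1 := by
  rw [← permW_coxW]
  exact relPairs_ok (cox_mem i j)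

/-! ### the homomorphism from the presented group -/

/-- the number of a generator. -/
def idx : Suz.Gen → Fin 7
  | .a => 0
  | .b => 1
  | .c => 2
  | .d => 3
  | .e => 4
  | .f => 5
  | .g => 6

theorem idx_surj : Function.Surjective idx := by
  intro i
  fin_cases i
  · exact ⟨.a, rfl⟩
  · exact ⟨.b, rfl⟩
  · exact ⟨.c, rfl⟩
  · exact ⟨.d, rfl⟩
  · exact ⟨.e, rfl⟩
  · exact ⟨.f, rfl⟩
  · exact ⟨.g, rfl⟩

/-- the images of the generators. -/
def fGen (x : Suz.Gen) : Equiv.Perm (Fin nP) := P (idx x).val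

theorem coxLabel_eq (x y : Suz.Gen) : coxLabel Suz.edges x y = lab (idx x).val (idx y).val := by
  cases x <;> cases y <;> rfl

theorem permW_one (a : ℕ) : permW [a] = P a := mul_one (P a)

theorem rel_e1 : P 0 = (P 2 * P 3) ^ 4 := by
  have h := relPairs_ok (p := ([0], [2, 3, 2, 3, 2, 3, 2, 3])) (by decide)
  have e2 : permW [2, 3, 2, 3, 2, 3, 2, 3] = (P 2 * P 3) ^ 4 := permW_coxW 2 3 4
  rw [← permW_one 0, ← e2]
  exact h

theorem rel_e2 : P 0 = (P 5 * P 6) ^ 2 := by
  have h := relPairs_ok (p := ([0], [5, 6, 5, 6])) (by decide)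
  have e2 : permW [5, 6, 5, 6] = (P 5 * P 6) ^ 2 := permW_coxW 5 6 2
  rw [← permW_one 0, ← e2]
  exact h

/-- the repeated word. -/
def wpow (w : List ℕ) : ℕ → List ℕ
  | 0 => []
  | n + 1 => w ++ wpow w n

theorem permW_wpow (w : List ℕ) (n : ℕ) : permW (wpow w n) = permW w ^ n := by
  induction n with
  | zero => rfl
  | succ n ih =>
    change permW (w ++ wpow w n) = _
    rw [permW_append, ih, pow_succ']

theorem wpow_letters {w : List ℕ} (hw : ∀ l ∈ w, l < 7) (n : ℕ) : ∀ l ∈ wpow w n, l < 7 := by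
  induction n with
  | zero =>
    intro l hl
    exact absurd hl List.not_mem_nil
  | succ n ih =>
    intro l hl
    change l ∈ w ++ wpow w n at hl
    rcases List.mem_append.mp hl with h | h
    · exact hw l h
    · exact ih l h

theorem rel_e3 : (P 0 * P 1 * P 2 * P 5) ^ 5 = 1 := by
  have h := relPairs_ok (p := (relW1, [])) (by decide)
  have e1 : relW1 = wpow [0, 1, 2, 5] 5 := by decide
  have e2 : permW [0, 1, 2, 5] = P 0 * P 1 * P 2 * P 5 := by
    rw [permW_cons, permW_cons, permW_cons, permW_one, mul_assoc, mul_assoc]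
  rw [← e2, ← permW_wpow, ← e1]
  exact h

theorem rel_e4 : (P 1 * P 5 * P 6) ^ 5 = 1 := by
  have h := relPairs_ok (p := (relW2, [])) (by decide)
  have e1 : relW2 = wpow [1, 5, 6] 5 := by decide
  have e2 : permW [1, 5, 6] = P 1 * P 5 * P 6 := by
    rw [permW_cons, permW_cons, permW_one, mul_assoc]
  rw [← e2, ← permW_wpow, ← e1]
  exact h

theorem rel_e5 : ((P 1 * P 2 * P 3 * P 2 * P 3) ^ 5 * P 4) ^ 3 = 1 := by
  have h := relPairs_ok (p := (relW3, [])) (by decide)
  have e1 : relW3 = wpow (wpow [1, 2, 3, 2, 3] 5 ++ [4]) 3 := by decide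
  have e2 : permW [1, 2, 3, 2, 3] = P 1 * P 2 * P 3 * P 2 * P 3 := by
    rw [permW_cons, permW_cons, permW_cons, permW_cons, permW_one, mul_assoc, mul_assoc,
      mul_assoc]
  rw [← e2, ← permW_wpow, ← permW_one 4, ← permW_append, ← permW_wpow, ← e1]
  exact h

theorem fGen_rels : ∀ r ∈ coxRelators Suz.edges ∪ {r | r ∈ Suz.extra}, FreeGroup.lift fGen r = 1 := by
  rintro r (⟨x, -, y, -, rfl⟩ | hr)
  · rw [map_pow, map_mul, FreeGroup.lift_apply_of, FreeGroup.lift_apply_of, coxLabel_eq]
    exact cox_rel (idx x) (idx y)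
  · change r ∈ Suz.extra at hr
    unfold Suz.extra at hr
    simp only [List.mem_cons, List.not_mem_nil, or_false] at hr
    rcases hr with rfl | rfl | rfl | rfl | rfl
    · rw [map_mul, map_inv, map_pow, map_mul, mul_inv_eq_one]
      simp only [FreeGroup.lift_apply_of]
      exact rel_e1
    · rw [map_mul, map_inv, map_pow, map_mul, mul_inv_eq_one]
      simp only [FreeGroup.lift_apply_of]
      exact rel_e2
    · rw [map_pow, map_mul, map_mul, map_mul]
      simp only [FreeGroup.lift_apply_of]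
      exact rel_e3
    · rw [map_pow, map_mul, map_mul]
      simp only [FreeGroup.lift_apply_of]
      exact rel_e4
    · rw [map_pow, map_mul, map_pow, map_mul, map_mul, map_mul, map_mul]
      simp only [FreeGroup.lift_apply_of]
      exact rel_e5

/-- the homomorphism from the presented group of Suzuki to the permutations of 1782 points. -/
def phi : Suz →* Equiv.Perm (Fin nP) := PresentedGroup.toGroup fGen_rels

theorem phi_of (x : Suz.Gen) : phi (PresentedGroup.of x) = fGen x :=
  PresentedGroup.toGroup.of fGen_rels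

theorem range_phi : phi.range = SuzP := by
  have h1 : (⊤ : Subgroup Suz) = Subgroup.closure (Set.range (PresentedGroup.of (rels :=
      coxRelators Suz.edges ∪ {r | r ∈ Suz.extra}))) := (PresentedGroup.closure_range_of _).symm
  rw [MonoidHom.range_eq_map, h1, MonoidHom.map_closure]
  unfold SuzP
  congr 1
  ext σ
  constructor
  · rintro ⟨_, ⟨x, rfl⟩, rfl⟩
    exact ⟨idx x, (phi_of x).symm⟩
  · rintro ⟨i, rfl⟩
    obtain ⟨x, rfl⟩ := idx_surj i
    exact ⟨PresentedGroup.of x, ⟨x, rfl⟩, phi_of x⟩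

theorem P_six_ne : P 6 ≠ 1 := by
  intro h
  have := congrArg (fun σ : Equiv.Perm (Fin nP) => (σ 0).val) h
  revert this
  decide +kernel

theorem phi_injective (hs : IsSimpleGroup Suz) : Function.Injective phi := by
  rw [← MonoidHom.ker_eq_bot_iff]
  rcases hs.eq_bot_or_eq_top_of_normal phi.ker inferInstance with h | h
  · exact h
  · exfalso
    apply P_six_ne
    have : PresentedGroup.of (rels := coxRelators Suz.edges ∪ {r | r ∈ Suz.extra}) Suz.Gen.g ∈
        phi.ker := by
      rw [h]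
      exact Subgroup.mem_top _
    rw [MonoidHom.mem_ker, phi_of] at this
    exact this

/-- the group on 1782 points is isomorphic to the presented group. -/
theorem SuzP_iso (hs : IsSimpleGroup Suz) : Nonempty (Suz ≃* ↥SuzP) := by
  have e := MonoidHom.ofInjective (phi_injective hs)
  rw [range_phi] at e
  exact ⟨e⟩

theorem isSuz_SuzP (h : IsSuz Suz) : IsSuz ↥SuzP := by
  obtain ⟨e⟩ := SuzP_iso h.1
  have := h.1
  exact ⟨e.symm.isSimpleGroup, by rw [← Nat.card_congr e.toEquiv]; exact h.2⟩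

end Cfsg.Agent.Helper9.SuzO
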