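import Mathlib
import Cfsg.Agent.Helper9.SuzO.Base
import Cfsg.Agent.Helper9.SuzO.Abs
import Cfsg.Agent.Helper9.SuzO.DataS

set_option autoImplicit false
set_option Elab.async false

/-! A subgroup of order 8192 of the group of Suzuki on 1782 points, generated by a chain of thirteen
involutions; its elements in normal form; its centre. -/

namespace Cfsg.Agent.Helper9.SuzO

open Cfsg.Agent.Helper9.J3 Cfsg.Agent.Helper9.HeO

/-- the image of a point under a generator of the subgroup. -/
def hF (m x : ℕ) : ℕ := lk12 (nthL hL m) x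

/-- a generator of the subgroup. -/
def hG (m : ℕ) : ↥SuzP := ⟨permW (nthW hWL m), permW_mem _⟩

/-- the check of the table of a generator. -/
def hTabChk (m : ℕ) : Bool :=
  andB (okLetters (nthW hWL m)) (andB (chkWord (nthW hWL m) (nthL hL m))
    (allB (fun x => Nat.beq (sapp (hF m) (hF m x)) x) nP))

set_option maxRecDepth 1000000 in
theorem hTab_b : allB hTabChk 13 = true := by decide +kernel

theorem hG_apply {m : ℕ} (hm : m < 13) (p : Fin nP) :
    ((hG m : Equiv.Perm (Fin nP)) p).val = hF m p.val := by
  obtain ⟨h1, h2⟩ := andB_true (allB_true hTab_b hm)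
  obtain ⟨h2, -⟩ := andB_true h2
  change (permW (nthW hWL m) p).val = _
  rw [permW_val _ (okLetters_true h1)]
  exact chkWord_true h2 p.isLt

theorem hG_mul_self {m : ℕ} (hm : m < 13) : hG m * hG m = 1 := by
  obtain ⟨-, h2⟩ := andB_true (allB_true hTab_b hm)
  obtain ⟨-, h3⟩ := andB_true h2
  apply Subtype.ext
  apply perm_ext
  intro p
  rw [Subgroup.coe_mul, Equiv.Perm.mul_apply, hG_apply hm, hG_apply hm]
  have h := allB_true h3 p.isLt
  rw [sapp_eq] at h
  exact Nat.eq_of_beq_eq_true h

theorem hG_inv {m : ℕ} (hm : m < 13) : (hG m)⁻¹ = hG m :=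
  inv_eq_of_mul_eq_one_left (hG_mul_self hm)

/-- the image of a point under a normal form. -/
def nfF (m e x : ℕ) : ℕ := Nat.rec x (fun k acc => Bool.rec acc (hF k acc) (bitT e k)) m

theorem nfF_succ (m e x : ℕ) :
    nfF (m + 1) e x = Bool.rec (nfF m e x) (hF m (nfF m e x)) (bitT e m) := rfl

/-- the normal form as an element of the group. -/
def nfG (m e : ℕ) : ↥SuzP := nfE hG m e

theorem nfG_apply {m : ℕ} (hm : m ≤ 13) (e : ℕ) (p : Fin nP) :
    ((nfG m e : Equiv.Perm (Fin nP)) p).val = nfF m e p.val := by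
  induction m with
  | zero => rfl
  | succ m ih =>
    unfold nfG
    rw [nfE_succ, nfF_succ]
    cases hb : bitT e m
    · rw [if_neg (by simp), one_mul]
      exact ih (by omega)
    · rw [if_pos rfl, Subgroup.coe_mul, Equiv.Perm.mul_apply, hG_apply (by omega)]
      have := ih (by omega)
      unfold nfG at this
      rw [this]

/-- the code of the conjugate of a generator by a later generator. -/
def relc (m k : ℕ) : ℕ := lkF 13 8191 relD (Nat.add (Nat.mul 13 m) k)

/-- the check of the conjugates of the generators. -/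
def relChk (m : ℕ) : Bool :=
  allB (fun k => allB (fun x =>
    Nat.beq (sapp (hF m) (sapp (hF k) (hF m x))) (nfF m (relc m k) x)) nP) m

set_option maxRecDepth 1000000 in
theorem rel_b : allB relChk 13 = true := by decide +kernel

theorem hG_conj {m k : ℕ} (hm : m < 13) (hk : k < m) :
    hG m * hG k * (hG m)⁻¹ = nfG m (relc m k) := by
  apply Subtype.ext
  apply perm_ext
  intro p
  rw [hG_inv hm, nfG_apply (by omega)]
  change ((hG m : Equiv.Perm (Fin nP)) ((hG k : Equiv.Perm (Fin nP))
    ((hG m : Equiv.Perm (Fin nP)) p))).val = _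
  rw [hG_apply hm, hG_apply (by omega), hG_apply hm]
  have h := allB_true (allB_true (allB_true rel_b hm) hk) p.isLt
  rw [sapp_eq, sapp_eq] at h
  exact Nat.eq_of_beq_eq_true h

/-- the subgroups of the chain. -/
def SH (m : ℕ) : Subgroup ↥SuzP := chainH hG m

theorem mem_SH {m : ℕ} (hm : m ≤ 13) {x : ↥SuzP} (hx : x ∈ SH m) :
    ∃ e, e < 2 ^ m ∧ x = nfG m e := by
  refine mem_chain hG m ?_ x hx
  intro m' hm'
  constructor
  · intro k hk
    rw [hG_conj (by omega) hk]
    exact nfE_mem hG m' _
  · rw [hG_mul_self (by omega)]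
    exact Subgroup.one_mem _

/-! ### the normal forms are different -/

/-- the signature of a normal form. -/
def sSig (e : ℕ) : ℕ := Nat.add (nfF 13 e 2) (Nat.mul 4096 (nfF 13 e 9))

/-- the entry of the sorted list of the normal forms. -/
def srt (k : ℕ) : ℕ := lkF 13 8191 srtD k

/-- the check that the signatures increase. -/
def srtChk (k : ℕ) : Bool :=
  andB (Nat.ble (srt k) 8191)
    (orB (Nat.ble 8191 k) (Nat.ble (Nat.succ (sapp sSig (srt k))) (sapp sSig (srt (Nat.succ k)))))

set_option maxRecDepth 1000000 in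
theorem srt_b0 : allC srtChk 0 2048 = true := by decide +kernel

set_option maxRecDepth 1000000 in
theorem srt_b1 : allC srtChk 1 2048 = true := by decide +kernel

set_option maxRecDepth 1000000 in
theorem srt_b2 : allC srtChk 2 2048 = true := by decide +kernel

set_option maxRecDepth 1000000 in
theorem srt_b3 : allC srtChk 3 2048 = true := by decide +kernel

theorem srt_b {k : ℕ} (hk : k < 8192) : srtChk k = true := by
  refine allC_true (K := 4) (c := 2048) ?_ (by omega)
  intro i hi
  interval_cases i
  · exact srt_b0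
  · exact srt_b1
  · exact srt_b2
  · exact srt_b3

theorem srt_lt {k : ℕ} (hk : k < 8192) : srt k < 8192 :=
  Nat.lt_succ_of_le (Nat.le_of_ble_eq_true (andB_true (srt_b hk)).1)

theorem srt_step {k : ℕ} (hk : k + 1 < 8192) : sSig (srt k) < sSig (srt (k + 1)) := by
  have h := (andB_true (srt_b (show k < 8192 by omega))).2
  rcases orB_true h with h1 | h1
  · have := Nat.le_of_ble_eq_true h1
    omega
  · rw [sapp_eq, sapp_eq] at h1
    exact Nat.lt_of_succ_le (Nat.le_of_ble_eq_true h1)

theorem sSig_eq (e : ℕ) : sSig e =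
    ((nfG 13 e : Equiv.Perm (Fin nP)) (⟨2, by norm_num⟩ : Fin nP)).val +
      4096 * ((nfG 13 e : Equiv.Perm (Fin nP)) (⟨9, by norm_num⟩ : Fin nP)).val := by
  rw [nfG_apply le_rfl, nfG_apply le_rfl]
  rfl

theorem srt_inj {k k' : ℕ} (hk : k < 8192) (hk' : k' < 8192) (h : srt k = srt k') : k = k' := by
  apply inj_of_step (f := fun k => sSig (srt k)) (m := 8192) (fun j hj => srt_step hj) hk hk'
  rw [h]

theorem srt_surj {e : ℕ} (he : e < 8192) : ∃ k, k < 8192 ∧ srt k = e := by
  let f : Fin 8192 → Fin 8192 := fun k => ⟨srt k.val, srt_lt k.isLt⟩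
  have hf : Function.Injective f := by
    intro k k' h
    exact Fin.ext (srt_inj k.isLt k'.isLt (congrArg Fin.val h))
  obtain ⟨k, hk⟩ := (Finite.injective_iff_surjective.mp hf) ⟨e, he⟩
  exact ⟨k.val, k.isLt, congrArg Fin.val hk⟩

theorem sSig_inj {e e' : ℕ} (he : e < 8192) (he' : e' < 8192) (h : sSig e = sSig e') : e = e' := by
  obtain ⟨k, hk, rfl⟩ := srt_surj he
  obtain ⟨k', hk', rfl⟩ := srt_surj he'
  have : k = k' :=
    inj_of_step (f := fun k => sSig (srt k)) (m := 8192) (fun j hj => srt_step hj) hk hk' h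
  rw [this]

/-- the normal forms are different. -/
theorem nfG_inj {e e' : ℕ} (he : e < 8192) (he' : e' < 8192) (h : nfG 13 e = nfG 13 e') :
    e = e' := by
  apply sSig_inj he he'
  rw [sSig_eq, sSig_eq, h]

/-- the order of the subgroup. -/
theorem card_SH : Nat.card (SH 13) = 8192 := by
  let f : Fin 8192 → SH 13 := fun e => ⟨nfG 13 e.val, nfE_mem hG 13 _⟩
  have hf : Function.Bijective f := by
    constructor
    · intro e e' h
      have h1 : nfG 13 e.val = nfG 13 e'.val := congrArg Subtype.val h
      exact Fin.ext (nfG_inj e.isLt e'.isLt h1)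
    · rintro ⟨x, hx⟩
      obtain ⟨e, he, rfl⟩ := mem_SH le_rfl hx
      exact ⟨⟨e, by norm_num at he; exact he⟩, rfl⟩
  rw [← Nat.card_congr (Equiv.ofBijective f hf), Nat.card_fin]

/-! ### the centre -/

/-- the entry of the table of the elements that are not central. -/
def cen (e : ℕ) : ℕ := lkF 16 65535 cenD e

/-- the check that an element other than the first two is not central. -/
def cenChk (e : ℕ) : Bool :=
  orB (Nat.ble e 1) (sapp (fun c => sapp (fun k => sapp (fun p =>
    andB (Nat.ble k 12) (andB (Nat.ble p 1781)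
      (notB (Nat.beq (sapp (hF k) (nfF 13 e p)) (sapp (nfF 13 e) (hF k p))))))
    (Nat.shiftRight c 4)) (Nat.land c 15)) (cen e))

set_option maxRecDepth 1000000 in
theorem cen_b0 : allC cenChk 0 2048 = true := by decide +kernel

set_option maxRecDepth 1000000 in
theorem cen_b1 : allC cenChk 1 2048 = true := by decide +kernel

set_option maxRecDepth 1000000 in
theorem cen_b2 : allC cenChk 2 2048 = true := by decide +kernel

set_option maxRecDepth 1000000 in
theorem cen_b3 : allC cenChk 3 2048 = true := by decide +kernel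

theorem cen_b {e : ℕ} (he : e < 8192) : cenChk e = true := by
  refine allC_true (K := 4) (c := 2048) ?_ (by omega)
  intro i hi
  interval_cases i
  · exact cen_b0
  · exact cen_b1
  · exact cen_b2
  · exact cen_b3

theorem hG_mem {k : ℕ} (hk : k < 13) : hG k ∈ SH 13 :=
  Subgroup.subset_closure ⟨k, hk, rfl⟩

theorem nfG_zero : nfG 13 0 = 1 := by
  unfold nfG
  have key : ∀ m : ℕ, nfE hG m 0 = 1 := by
    intro m
    induction m with
    | zero => rfl
    | succ m ih =>
      rw [nfE_succ, ih, bitT_eq, Nat.zero_testBit]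
      simp
  exact key 13

theorem nfG_one : nfG 13 1 = bG := by
  have h1 : nfG 13 1 = hG 0 := by
    apply Subtype.ext
    apply perm_ext
    intro p
    rw [nfG_apply le_rfl, hG_apply (by norm_num)]
    rfl
  rw [h1]
  apply Subtype.ext
  change permW (nthW hWL 0) = P 0
  exact mul_one (P 0)

theorem bG_mem : bG ∈ SH 13 := by
  rw [← nfG_one]
  exact nfE_mem hG 13 _

/-- the centre of the subgroup consists of the neutral element and the first letter. -/
theorem center_SH {x : ↥SuzP} (hx : x ∈ SH 13) (hc : ∀ y ∈ SH 13, x * y = y * x) :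
    x = 1 ∨ x = bG := by
  obtain ⟨e, he, rfl⟩ := mem_SH le_rfl hx
  have he' : e < 8192 := by norm_num at he; exact he
  rcases orB_true (cen_b he') with h | h
  · have h1 := Nat.le_of_ble_eq_true h
    interval_cases e
    · exact Or.inl nfG_zero
    · exact Or.inr nfG_one
  · exfalso
    rw [sapp_eq, sapp_eq, sapp_eq] at h
    obtain ⟨hk, h⟩ := andB_true h
    obtain ⟨hp, h⟩ := andB_true h
    have hk' : Nat.land (cen e) 15 < 13 := Nat.lt_succ_of_le (Nat.le_of_ble_eq_true hk)
    have hp' : Nat.shiftRight (cen e) 4 < nP := Nat.lt_succ_of_le (Nat.le_of_ble_eq_true hp)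
    have h2 := notB_true h
    rw [sapp_eq, sapp_eq] at h2
    have h3 := hc (hG (Nat.land (cen e) 15)) (hG_mem hk')
    have h4 := congrArg (fun g : ↥SuzP =>
      ((g : Equiv.Perm (Fin nP)) ⟨Nat.shiftRight (cen e) 4, hp'⟩).val) h3
    simp only [Subgroup.coe_mul, Equiv.Perm.mul_apply] at h4
    rw [nfG_apply le_rfl, hG_apply hk', hG_apply hk', nfG_apply le_rfl] at h4
    change nfF 13 e (hF _ _) = hF _ (nfF 13 e _) at h4
    rw [h4, Nat.beq_refl] at h2
    exact Bool.noConfusion h2

/-- the first letter commutes with the elements of the subgroup. -/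
theorem bG_comm {y : ↥SuzP} (hy : y ∈ SH 13) : bG * y = y * bG := by
  have hb : bG = hG 0 := by
    apply Subtype.ext
    change P 0 = permW (nthW hWL 0)
    exact (mul_one (P 0)).symm
  refine Subgroup.closure_induction (p := fun y _ => bG * y = y * bG) ?_ ?_ ?_ ?_ hy
  · rintro y ⟨k, hk, rfl⟩
    rcases Nat.eq_zero_or_pos k with rfl | hpos
    · rw [hb]
    · have h1 := hG_conj hk hpos
      have h0 : relc k 0 = 1 := by
        interval_cases k <;> decide +kernel
      have h2 : nfG k 1 = hG 0 := by
        apply Subtype.ext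
        apply perm_ext
        intro p
        rw [nfG_apply (by omega), hG_apply (by norm_num)]
        obtain ⟨k', rfl⟩ : ∃ k', k = k' + 1 := ⟨k - 1, by omega⟩
        have key : ∀ m : ℕ, nfF (m + 1) 1 p.val = hF 0 p.val := by
          intro m
          induction m with
          | zero => rfl
          | succ m ih =>
            rw [nfF_succ, ih]
            have : bitT 1 (m + 1) = false := by
              rw [bitT_eq]
              exact Nat.testBit_lt_two_pow (by
                calc 1 < 2 := by norm_num
                  _ ≤ 2 ^ (m + 1) := Nat.le_self_pow (by omega) 2)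
            rw [this]
        exact key k'
      rw [h0, h2] at h1
      rw [hb]
      have h3 : hG k * hG 0 = hG 0 * hG k := mul_inv_eq_iff_eq_mul.mp h1
      exact h3.symm
  · rw [mul_one, one_mul]
  · intro x y _ _ hx hy
    rw [← mul_assoc, hx, mul_assoc, hy, mul_assoc]
  · intro x _ hx
    rw [eq_inv_mul_iff_mul_eq, ← mul_assoc, ← hx, mul_inv_cancel_right]

end Cfsg.Agent.Helper9.SuzO
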