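import Mathlib
import Cfsg.Agent.Helper9.SuzO.Syl
import Cfsg.Agent.Helper9.SuzO.Iso
import Cfsg.Agent.Helper9.SuzO.DataC

set_option autoImplicit false
set_option Elab.async false

/-! The order of the centralizer of the first letter in the group of Suzuki on 1782 points is
divisible by 3317760, and the first letter has at most 135135 conjugates. -/

namespace Cfsg.Agent.Helper9.SuzO

open Cfsg.Agent.Helper9.J3 Cfsg.Agent.Helper9.HeO MulAction

/-- the centralizer of the first letter. -/
def CB : Subgroup ↥SuzP := Subgroup.centralizer ({bG} : Set ↥SuzP)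

theorem mem_CB {x : ↥SuzP} : x ∈ CB ↔ x * bG = bG * x := Subgroup.mem_centralizer_singleton_iff

theorem SH_le : SH 13 ≤ CB := fun _ hy => mem_CB.mpr (bG_comm hy).symm

theorem dvd_8192 : 8192 ∣ Nat.card CB := by
  have h := Subgroup.card_dvd_of_le SH_le
  rw [card_SH] at h
  exact h

/-! ### words in the centralizer -/

/-- the check that a word commutes with the first letter. -/
def commChk (w : List ℕ) : Bool :=
  andB (okLetters w)
    (allB (fun x => Nat.beq (evalF w (tabF 0 x)) (sapp (tabF 0) (evalF w x))) nP)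

/-- the element of a word. -/
def cW (w : List ℕ) : ↥SuzP := ⟨permW w, permW_mem _⟩

theorem cW_apply {w : List ℕ} (hw : ∀ l ∈ w, l < 7) (p : Fin nP) :
    ((cW w : Equiv.Perm (Fin nP)) p).val = evalF w p.val := permW_val w hw p

theorem cW_mem {w : List ℕ} (h : commChk w = true) : cW w ∈ CB := by
  obtain ⟨h1, h2⟩ := andB_true h
  have hl := okLetters_true h1
  rw [mem_CB]
  apply Subtype.ext
  apply perm_ext
  intro p
  rw [Subgroup.coe_mul, Subgroup.coe_mul, Equiv.Perm.mul_apply, Equiv.Perm.mul_apply,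
    cW_apply hl, bG_apply, bG_apply, cW_apply hl]
  have h3 := allB_true h2 p.isLt
  rw [sapp_eq] at h3
  exact Nat.eq_of_beq_eq_true h3

set_option maxRecDepth 1000000 in
theorem cg_b : allB (fun j => commChk (nthW cgW j)) 10 = true := by decide +kernel

theorem cg_mem {j : ℕ} (hj : j < 10) : cW (nthW cgW j) ∈ CB := cW_mem (allB_true cg_b hj)

theorem cg_letters {j : ℕ} (hj : j < 10) : ∀ l ∈ nthW cgW j, l < 7 :=
  okLetters_true (andB_true (allB_true cg_b hj)).1

/-! ### the orbit of the centralizer -/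

/-- the entry of the tree. -/
def tree (y : ℕ) : ℕ := lk12 treeD y

/-- the check of the tree at a point. -/
def treeChk (y : ℕ) : Bool :=
  orB (Nat.beq (tabF 0 y) y) (orB (Nat.beq y 2)
    (sapp (fun t => sapp (fun y' =>
      andB (Nat.ble (Nat.land t 15) 9) (andB (Nat.ble y' 1781) (andB (notB (Nat.beq (tabF 0 y') y'))
        (Nat.ble (Nat.succ (Nat.shiftRight (tree y') 4)) (Nat.shiftRight t 4)))))
      (evalF (nthW cgW (Nat.land t 15)) y)) (tree y)))

set_option maxRecDepth 1000000 in
theorem tree_b : allB treeChk nP = true := by decide +kernel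

/-- the base point of the orbit. -/
def p1 : Fin nP := ⟨2, by norm_num⟩

/-- every point that the first letter moves is the image of the base point under an element of
the centralizer. -/
theorem exists_CB_map (d : ℕ) : ∀ y : ℕ, ∀ hy : y < nP, tabF 0 y ≠ y →
    Nat.shiftRight (tree y) 4 = d → ∃ σ ∈ CB, (σ : Equiv.Perm (Fin nP)) p1 = ⟨y, hy⟩ := by
  induction d using Nat.strong_induction_on with
  | _ d ih =>
    intro y hy hfix hd
    rcases orB_true (allB_true tree_b hy) with h | h
    · exact absurd (Nat.eq_of_beq_eq_true h) hfix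
    rcases orB_true h with h | h
    · refine ⟨1, CB.one_mem, ?_⟩
      apply Fin.ext
      exact (Nat.eq_of_beq_eq_true h).symm
    · rw [sapp_eq, sapp_eq] at h
      obtain ⟨hj, h⟩ := andB_true h
      obtain ⟨hy', h⟩ := andB_true h
      obtain ⟨hfix', hdep⟩ := andB_true h
      set j := Nat.land (tree y) 15 with hjdef
      set y' := evalF (nthW cgW j) y with hy'def
      have hj' : j < 10 := Nat.lt_succ_of_le (Nat.le_of_ble_eq_true hj)
      have hy'' : y' < nP := Nat.lt_succ_of_le (Nat.le_of_ble_eq_true hy')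
      have hfix'' : tabF 0 y' ≠ y' := by
        intro e
        have := notB_true hfix'
        rw [e, Nat.beq_refl] at this
        exact Bool.noConfusion this
      have hlt : Nat.shiftRight (tree y') 4 < d := by
        rw [← hd]
        exact Nat.lt_of_succ_le (Nat.le_of_ble_eq_true hdep)
      obtain ⟨σ, hσ, hσy⟩ := ih _ hlt y' hy'' hfix'' rfl
      refine ⟨(cW (nthW cgW j))⁻¹ * σ, CB.mul_mem (CB.inv_mem (cg_mem hj')) hσ, ?_⟩
      rw [Subgroup.coe_mul, Equiv.Perm.mul_apply, hσy, Subgroup.coe_inv,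
        Equiv.Perm.inv_eq_iff_eq]
      apply Fin.ext
      rw [cW_apply (cg_letters hj')]

theorem CB_smul (σ : ↥CB) (q : Fin nP) : σ • q = ((σ : ↥SuzP) : Equiv.Perm (Fin nP)) q := rfl

/-- the orbit of the base point under the centralizer consists of the points that the first
letter moves. -/
theorem orbit_CB : orbit ↥CB p1 = {q : Fin nP | tabF 0 q.val ≠ q.val} := by
  ext q
  constructor
  · rintro ⟨σ, rfl⟩
    change tabF 0 (σ • p1).val ≠ (σ • p1).val
    rw [CB_smul]
    intro h
    have h1 : σ.1 * bG = bG * σ.1 := mem_CB.mp σ.2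
    have h2 := congrArg (fun g : ↥SuzP => ((g : Equiv.Perm (Fin nP)) p1).val) h1
    simp only [Subgroup.coe_mul, Equiv.Perm.mul_apply] at h2
    rw [bG_apply ((σ.1 : Equiv.Perm (Fin nP)) p1), h] at h2
    have h3 : (bG : Equiv.Perm (Fin nP)) p1 = p1 :=
      (σ.1 : Equiv.Perm (Fin nP)).injective (Fin.ext h2)
    have h4 := congrArg Fin.val h3
    rw [bG_apply] at h4
    revert h4
    change ¬ (tabF 0 2 = 2)
    decide +kernel
  · intro hq
    obtain ⟨σ, hσ, hσq⟩ := exists_CB_map _ q.val q.isLt hq rfl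
    exact ⟨⟨σ, hσ⟩, hσq⟩

set_option maxRecDepth 1000000 in
theorem moved_b : Nat.beq (sumF (fun x => Bool.rec 0 1 (notB (Nat.beq (tabF 0 x) x))) nP) 1728 =
    true := by decide +kernel

theorem ncard_orbit_CB : (orbit ↥CB p1).ncard = 1728 := by
  rw [orbit_CB]
  have h := card_filter_fin (fun x => notB (Nat.beq (tabF 0 x) x)) nP
  rw [Nat.eq_of_beq_eq_true moved_b] at h
  rw [← h, Set.ncard_eq_toFinset_card']
  apply congrArg Finset.card
  ext q
  simp only [Set.mem_toFinset, Set.mem_ofPred_eq, Finset.mem_filter, Finset.mem_univ, true_and]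
  constructor
  · intro hq
    cases hb : Nat.beq (tabF 0 q.val) q.val
    · rfl
    · exact absurd (Nat.eq_of_beq_eq_true hb) hq
  · intro hq e
    rw [e, Nat.beq_refl] at hq
    exact Bool.noConfusion hq

theorem card_CB_eq [Finite ↥SuzP] : Nat.card CB = 1728 * Nat.card (stabilizer ↥CB p1) := by
  rw [← ncard_orbit_CB, ← index_stabilizer, Subgroup.index_mul_card]

/-! ### elements of odd order in the stabilizer -/

/-- the check that a word commutes with the first letter, fixes the base point, has a power that is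
the identity and is not the identity. -/
def stabChk (w : List ℕ) (n q : ℕ) : Bool :=
  andB (commChk w) (andB (Nat.beq (evalF w 2) 2)
    (andB (allB (fun x => Nat.beq (evalF (wpow w n) x) x) nP)
      (andB (Nat.ble q 1781) (notB (Nat.beq (evalF w q) q)))))

theorem dvd_of_stabChk {w : List ℕ} {n q : ℕ} (hn : n.Prime) (h : stabChk w n q = true)
    [Finite ↥SuzP] : n ∣ Nat.card (stabilizer ↥CB p1) := by
  obtain ⟨h0, h⟩ := andB_true h
  obtain ⟨h1, h⟩ := andB_true h
  obtain ⟨h2, h⟩ := andB_true h
  obtain ⟨h3, h4⟩ := andB_true h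
  have hl := okLetters_true (andB_true h0).1
  have hstab : (⟨cW w, cW_mem h0⟩ : ↥CB) ∈ stabilizer ↥CB p1 := by
    rw [mem_stabilizer_iff, CB_smul]
    apply Fin.ext
    rw [cW_apply hl]
    exact Nat.eq_of_beq_eq_true h1
  have : Fact n.Prime := ⟨hn⟩
  have ho : orderOf (cW w) = n := by
    apply orderOf_eq_prime
    · apply Subtype.ext
      rw [Subgroup.coe_pow]
      change permW w ^ n = 1
      rw [← permW_wpow]
      apply perm_ext
      intro p
      rw [permW_val _ (wpow_letters hl n)]
      exact Nat.eq_of_beq_eq_true (allB_true h2 p.isLt)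
    · intro e
      have hq : q < nP := Nat.lt_succ_of_le (Nat.le_of_ble_eq_true h3)
      have e2 := cW_apply hl ⟨q, hq⟩
      rw [e] at e2
      have h5 := notB_true h4
      change q = evalF w q at e2
      rw [← e2, Nat.beq_refl] at h5
      exact Bool.noConfusion h5
  have ho' : orderOf (⟨⟨cW w, cW_mem h0⟩, hstab⟩ : ↥(stabilizer ↥CB p1)) = n := by
    rw [← Subgroup.orderOf_coe, ← Subgroup.orderOf_coe]
    exact ho
  rw [← ho']
  exact orderOf_dvd_natCard _

set_option maxRecDepth 1000000 in
theorem t3_b : stabChk t3W 3 4 = true := by decide +kernel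

set_option maxRecDepth 1000000 in
theorem t5_b : stabChk t5W 5 4 = true := by decide +kernel

/-- the order of the centralizer of the first letter is divisible by 3317760. -/
theorem dvd_card_CB [Finite ↥SuzP] : 3317760 ∣ Nat.card CB := by
  have h3 : 3 ∣ Nat.card (stabilizer ↥CB p1) := dvd_of_stabChk (by norm_num) t3_b
  have h5 : 5 ∣ Nat.card (stabilizer ↥CB p1) := dvd_of_stabChk (by norm_num) t5_b
  have h15 : 3 * 5 ∣ Nat.card (stabilizer ↥CB p1) :=
    Nat.Coprime.mul_dvd_of_dvd_of_dvd (by norm_num) h3 h5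
  have h1 : 1728 * (3 * 5) ∣ Nat.card CB := by
    rw [card_CB_eq]
    exact Nat.mul_dvd_mul_left 1728 h15
  have h405 : 405 ∣ Nat.card CB := Dvd.dvd.trans (by norm_num) h1
  have h2 : 8192 * 405 ∣ Nat.card CB :=
    Nat.Coprime.mul_dvd_of_dvd_of_dvd (by norm_num) dvd_8192 h405
  norm_num at h2
  exact h2

/-- the first letter has at most 135135 conjugates. -/
theorem card_class_le (hc : Nat.card ↥SuzP = 448345497600) :
    {y : ↥SuzP | ∃ g : ↥SuzP, g * bG * g⁻¹ = y}.ncard ≤ 135135 := by
  have : Finite ↥SuzP := Nat.finite_of_card_ne_zero (by rw [hc]; norm_num)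
  have h1 := card_class_mul bG
  rw [hc] at h1
  obtain ⟨k, hk⟩ := dvd_card_CB
  change Nat.card CB * _ = _ at h1
  rw [hk] at h1
  have hk0 : 0 < k := by
    rcases Nat.eq_zero_or_pos k with h0 | h0
    · rw [h0] at h1
      norm_num at h1
    · exact h0
  have h2 : 3317760 * (k * {y : ↥SuzP | ∃ g : ↥SuzP, g * bG * g⁻¹ = y}.ncard) =
      3317760 * 135135 := by
    rw [← mul_assoc, h1]
  have h3 := Nat.eq_of_mul_eq_mul_left (by norm_num) h2
  calc {y : ↥SuzP | ∃ g : ↥SuzP, g * bG * g⁻¹ = y}.ncard
      ≤ k * {y : ↥SuzP | ∃ g : ↥SuzP, g * bG * g⁻¹ = y}.ncard := Nat.le_mul_of_pos_left _ hk0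
    _ = 135135 := h3

end Cfsg.Agent.Helper9.SuzO
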