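import Mathlib
import Cfsg.Agent.Helper9.SuzO.Cent
import Cfsg.Agent.Helper9.SuzO.DataL

set_option autoImplicit false
set_option Elab.async false

/-! The list of the 135135 conjugates of the first letter in the group of Suzuki on 1782 points:
each is conjugate under a power of the element of order thirteen to one of 10395
representatives. -/

namespace Cfsg.Agent.Helper9.SuzO

open Cfsg.Agent.Helper9.J3 Cfsg.Agent.Helper9.HeO

/-- the code of a representative. -/
def repc (j : ℕ) : ℕ := lkF 24 16777215 (nthL repL (Nat.shiftRight j 9)) (Nat.land j 511)

/-- a digit of the code of a representative. -/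
def digC (c k : ℕ) : ℕ := Nat.land (Nat.shiftRight c (Nat.add 3 (Nat.mul 4 k))) 15

/-- the image of a point under the representative with the first digits of a code. -/
def repFn (c n p : ℕ) : ℕ :=
  Nat.rec (motive := fun _ => ℕ → ℕ) (fun p => tabF 0 p)
    (fun k ih p => tabF 0 (aF (Nat.sub 13 (digC c k)) (ih (aF (digC c k) (tabF 0 p))))) n p

theorem repFn_succ (c n p : ℕ) : repFn c (n + 1) p =
    tabF 0 (aF (Nat.sub 13 (digC c n)) (repFn c n (aF (digC c n) (tabF 0 p)))) := rfl

/-- the representative with the first digits of a code. -/
def repEn (c n : ℕ) : ↥SuzP :=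
  Nat.rec bG (fun k ih => bG * (aG ^ digC c k)⁻¹ * ih * aG ^ digC c k * bG) n

theorem repEn_succ (c n : ℕ) : repEn c (n + 1) =
    bG * (aG ^ digC c n)⁻¹ * repEn c n * aG ^ digC c n * bG := rfl

/-- the image of a point under the representative of a code. -/
def repF (c p : ℕ) : ℕ := repFn c (Nat.land c 7) p

/-- the representative of a code. -/
def repE (c : ℕ) : ↥SuzP := repEn c (Nat.land c 7)

/-- the check of the digits of a code. -/
def digOk (c : ℕ) : Bool := allB (fun k => Nat.ble (digC c k) 13) (Nat.land c 7)

theorem repEn_apply (c n : ℕ) (h : ∀ k, k < n → digC c k ≤ 13) (p : Fin nP) :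
    ((repEn c n : Equiv.Perm (Fin nP)) p).val = repFn c n p.val := by
  induction n generalizing p with
  | zero => exact bG_apply p
  | succ n ih =>
    have hd : digC c n ≤ 13 := h n (Nat.lt_succ_self n)
    have ih' := ih (fun k hk => h k (Nat.lt_succ_of_lt hk))
    rw [repEn_succ, repFn_succ, Subgroup.coe_mul, Subgroup.coe_mul, Subgroup.coe_mul,
      Subgroup.coe_mul, Equiv.Perm.mul_apply, Equiv.Perm.mul_apply, Equiv.Perm.mul_apply,
      Equiv.Perm.mul_apply, bG_apply, aG_pow_inv_apply hd, ih', aG_pow_apply _ hd, bG_apply]
    rfl

theorem repE_apply {c : ℕ} (h : digOk c = true) (p : Fin nP) :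
    ((repE c : Equiv.Perm (Fin nP)) p).val = repF c p.val :=
  repEn_apply c _ (fun _ hk => Nat.le_of_ble_eq_true (allB_true h hk)) p

theorem repEn_conj (c n : ℕ) : ∃ g : ↥SuzP, g * bG * g⁻¹ = repEn c n := by
  induction n with
  | zero => exact ⟨1, by rw [one_mul, inv_one, mul_one]; rfl⟩
  | succ n ih =>
    obtain ⟨g, hg⟩ := ih
    refine ⟨bG * (aG ^ digC c n)⁻¹ * g, ?_⟩
    rw [repEn_succ, ← hg]
    have hb : bG⁻¹ = bG := bG_inv
    calc bG * (aG ^ digC c n)⁻¹ * g * bG * (bG * (aG ^ digC c n)⁻¹ * g)⁻¹
        = bG * (aG ^ digC c n)⁻¹ * (g * bG * g⁻¹) * aG ^ digC c n * bG⁻¹ := by group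
      _ = _ := by rw [hb]

/-- the image of a point under the conjugate of the representative of a code by a power of the
element of order thirteen. -/
def yC (c i p : ℕ) : ℕ := aF (Nat.sub 13 i) (sapp (repF c) (aF i p))

/-- the signature of a conjugate, from the code of the representative. -/
def sigC (c i : ℕ) : ℕ :=
  Nat.add (yC c i 487) (Nat.mul 4096 (Nat.add (yC c i 87)
    (Nat.mul 4096 (Nat.add (yC c i 1093) (Nat.mul 4096 (yC c i 308))))))

/-- the signature of a conjugate. -/
def sigOf (j i : ℕ) : ℕ := sapp (fun c => sigC c i) (repc j)

/-- the entry of the sorted list. -/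
def ent (k : ℕ) : ℕ := lkF 18 262143 (nthL lstL (Nat.shiftRight k 11)) (Nat.land k 2047)

/-- the number of the representative of an entry. -/
def entJ (k : ℕ) : ℕ := Nat.shiftRight (ent k) 4

/-- the exponent of an entry. -/
def entI (k : ℕ) : ℕ := Nat.land (ent k) 15

/-- the signature of an entry. -/
def sigK (k : ℕ) : ℕ := sapp (fun e => sigOf (Nat.shiftRight e 4) (Nat.land e 15)) (ent k)

theorem sigK_eq (k : ℕ) : sigK k = sigOf (entJ k) (entI k) := sapp_eq _ _

/-- the check that the signatures increase. -/
def stepChk (k : ℕ) : Bool :=
  orB (Nat.ble 135134 k) (Nat.ble (Nat.succ (sigK k)) (sigK (Nat.succ k)))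

/-- the check of the range of the entries. -/
def rngChk (k : ℕ) : Bool := andB (Nat.ble (Nat.succ (entJ k)) 10395) (Nat.ble (entI k) 13)

set_option maxRecDepth 1000000 in
theorem rng_b : allB rngChk 135135 = true := by decide +kernel

set_option maxRecDepth 1000000 in
theorem dig_b : allB (fun j => digOk (repc j)) 10395 = true := by decide +kernel

set_option maxRecDepth 1000000 in
theorem step_0 : allC stepChk 0 2048 = true := by decide +kernel

set_option maxRecDepth 1000000 in
theorem step_1 : allC stepChk 1 2048 = true := by decide +kernel

set_option maxRecDepth 1000000 in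
theorem step_2 : allC stepChk 2 2048 = true := by decide +kernel

set_option maxRecDepth 1000000 in
theorem step_3 : allC stepChk 3 2048 = true := by decide +kernel

set_option maxRecDepth 1000000 in
theorem step_4 : allC stepChk 4 2048 = true := by decide +kernel

set_option maxRecDepth 1000000 in
theorem step_5 : allC stepChk 5 2048 = true := by decide +kernel

set_option maxRecDepth 1000000 in
theorem step_6 : allC stepChk 6 2048 = true := by decide +kernel

set_option maxRecDepth 1000000 in
theorem step_7 : allC stepChk 7 2048 = true := by decide +kernel

set_option maxRecDepth 1000000 in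
theorem step_8 : allC stepChk 8 2048 = true := by decide +kernel

set_option maxRecDepth 1000000 in
theorem step_9 : allC stepChk 9 2048 = true := by decide +kernel

set_option maxRecDepth 1000000 in
theorem step_10 : allC stepChk 10 2048 = true := by decide +kernel

set_option maxRecDepth 1000000 in
theorem step_11 : allC stepChk 11 2048 = true := by decide +kernel

set_option maxRecDepth 1000000 in
theorem step_12 : allC stepChk 12 2048 = true := by decide +kernel

set_option maxRecDepth 1000000 in
theorem step_13 : allC stepChk 13 2048 = true := by decide +kernel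

set_option maxRecDepth 1000000 in
theorem step_14 : allC stepChk 14 2048 = true := by decide +kernel

set_option maxRecDepth 1000000 in
theorem step_15 : allC stepChk 15 2048 = true := by decide +kernel

set_option maxRecDepth 1000000 in
theorem step_16 : allC stepChk 16 2048 = true := by decide +kernel

set_option maxRecDepth 1000000 in
theorem step_17 : allC stepChk 17 2048 = true := by decide +kernel

set_option maxRecDepth 1000000 in
theorem step_18 : allC stepChk 18 2048 = true := by decide +kernel

set_option maxRecDepth 1000000 in
theorem step_19 : allC stepChk 19 2048 = true := by decide +kernel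

set_option maxRecDepth 1000000 in
theorem step_20 : allC stepChk 20 2048 = true := by decide +kernel

set_option maxRecDepth 1000000 in
theorem step_21 : allC stepChk 21 2048 = true := by decide +kernel

set_option maxRecDepth 1000000 in
theorem step_22 : allC stepChk 22 2048 = true := by decide +kernel

set_option maxRecDepth 1000000 in
theorem step_23 : allC stepChk 23 2048 = true := by decide +kernel

set_option maxRecDepth 1000000 in
theorem step_24 : allC stepChk 24 2048 = true := by decide +kernel

set_option maxRecDepth 1000000 in
theorem step_25 : allC stepChk 25 2048 = true := by decide +kernel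

set_option maxRecDepth 1000000 in
theorem step_26 : allC stepChk 26 2048 = true := by decide +kernel

set_option maxRecDepth 1000000 in
theorem step_27 : allC stepChk 27 2048 = true := by decide +kernel

set_option maxRecDepth 1000000 in
theorem step_28 : allC stepChk 28 2048 = true := by decide +kernel

set_option maxRecDepth 1000000 in
theorem step_29 : allC stepChk 29 2048 = true := by decide +kernel

set_option maxRecDepth 1000000 in
theorem step_30 : allC stepChk 30 2048 = true := by decide +kernel

set_option maxRecDepth 1000000 in
theorem step_31 : allC stepChk 31 2048 = true := by decide +kernel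

set_option maxRecDepth 1000000 in
theorem step_32 : allC stepChk 32 2048 = true := by decide +kernel

set_option maxRecDepth 1000000 in
theorem step_33 : allC stepChk 33 2048 = true := by decide +kernel

set_option maxRecDepth 1000000 in
theorem step_34 : allC stepChk 34 2048 = true := by decide +kernel

set_option maxRecDepth 1000000 in
theorem step_35 : allC stepChk 35 2048 = true := by decide +kernel

set_option maxRecDepth 1000000 in
theorem step_36 : allC stepChk 36 2048 = true := by decide +kernel

set_option maxRecDepth 1000000 in
theorem step_37 : allC stepChk 37 2048 = true := by decide +kernel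

set_option maxRecDepth 1000000 in
theorem step_38 : allC stepChk 38 2048 = true := by decide +kernel

set_option maxRecDepth 1000000 in
theorem step_39 : allC stepChk 39 2048 = true := by decide +kernel

set_option maxRecDepth 1000000 in
theorem step_40 : allC stepChk 40 2048 = true := by decide +kernel

set_option maxRecDepth 1000000 in
theorem step_41 : allC stepChk 41 2048 = true := by decide +kernel

set_option maxRecDepth 1000000 in
theorem step_42 : allC stepChk 42 2048 = true := by decide +kernel

set_option maxRecDepth 1000000 in
theorem step_43 : allC stepChk 43 2048 = true := by decide +kernel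

set_option maxRecDepth 1000000 in
theorem step_44 : allC stepChk 44 2048 = true := by decide +kernel

set_option maxRecDepth 1000000 in
theorem step_45 : allC stepChk 45 2048 = true := by decide +kernel

set_option maxRecDepth 1000000 in
theorem step_46 : allC stepChk 46 2048 = true := by decide +kernel

set_option maxRecDepth 1000000 in
theorem step_47 : allC stepChk 47 2048 = true := by decide +kernel

set_option maxRecDepth 1000000 in
theorem step_48 : allC stepChk 48 2048 = true := by decide +kernel

set_option maxRecDepth 1000000 in
theorem step_49 : allC stepChk 49 2048 = true := by decide +kernel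

set_option maxRecDepth 1000000 in
theorem step_50 : allC stepChk 50 2048 = true := by decide +kernel

set_option maxRecDepth 1000000 in
theorem step_51 : allC stepChk 51 2048 = true := by decide +kernel

set_option maxRecDepth 1000000 in
theorem step_52 : allC stepChk 52 2048 = true := by decide +kernel

set_option maxRecDepth 1000000 in
theorem step_53 : allC stepChk 53 2048 = true := by decide +kernel

set_option maxRecDepth 1000000 in
theorem step_54 : allC stepChk 54 2048 = true := by decide +kernel

set_option maxRecDepth 1000000 in
theorem step_55 : allC stepChk 55 2048 = true := by decide +kernel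

set_option maxRecDepth 1000000 in
theorem step_56 : allC stepChk 56 2048 = true := by decide +kernel

set_option maxRecDepth 1000000 in
theorem step_57 : allC stepChk 57 2048 = true := by decide +kernel

set_option maxRecDepth 1000000 in
theorem step_58 : allC stepChk 58 2048 = true := by decide +kernel

set_option maxRecDepth 1000000 in
theorem step_59 : allC stepChk 59 2048 = true := by decide +kernel

set_option maxRecDepth 1000000 in
theorem step_60 : allC stepChk 60 2048 = true := by decide +kernel

set_option maxRecDepth 1000000 in
theorem step_61 : allC stepChk 61 2048 = true := by decide +kernel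

set_option maxRecDepth 1000000 in
theorem step_62 : allC stepChk 62 2048 = true := by decide +kernel

set_option maxRecDepth 1000000 in
theorem step_63 : allC stepChk 63 2048 = true := by decide +kernel

set_option maxRecDepth 1000000 in
theorem step_64 : allC stepChk 64 2048 = true := by decide +kernel

set_option maxRecDepth 1000000 in
theorem step_65 : allC stepChk 65 2048 = true := by decide +kernel

theorem step_all {k : ℕ} (hk : k < 135134) : sigK k < sigK (k + 1) := by
  have h : stepChk k = true := by
    refine allC_true (K := 66) (c := 2048) ?_ (by omega)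
    intro i hi
    interval_cases i
    · exact step_0
    · exact step_1
    · exact step_2
    · exact step_3
    · exact step_4
    · exact step_5
    · exact step_6
    · exact step_7
    · exact step_8
    · exact step_9
    · exact step_10
    · exact step_11
    · exact step_12
    · exact step_13
    · exact step_14
    · exact step_15
    · exact step_16
    · exact step_17
    · exact step_18
    · exact step_19
    · exact step_20
    · exact step_21
    · exact step_22
    · exact step_23
    · exact step_24
    · exact step_25
    · exact step_26
    · exact step_27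
    · exact step_28
    · exact step_29
    · exact step_30
    · exact step_31
    · exact step_32
    · exact step_33
    · exact step_34
    · exact step_35
    · exact step_36
    · exact step_37
    · exact step_38
    · exact step_39
    · exact step_40
    · exact step_41
    · exact step_42
    · exact step_43
    · exact step_44
    · exact step_45
    · exact step_46
    · exact step_47
    · exact step_48
    · exact step_49
    · exact step_50
    · exact step_51
    · exact step_52
    · exact step_53
    · exact step_54
    · exact step_55
    · exact step_56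
    · exact step_57
    · exact step_58
    · exact step_59
    · exact step_60
    · exact step_61
    · exact step_62
    · exact step_63
    · exact step_64
    · exact step_65
  rcases orB_true h with h1 | h1
  · have := Nat.le_of_ble_eq_true h1
    omega
  · exact Nat.lt_of_succ_le (Nat.le_of_ble_eq_true h1)

theorem entJ_lt {k : ℕ} (hk : k < 135135) : entJ k < 10395 :=
  Nat.lt_of_succ_le (Nat.le_of_ble_eq_true (andB_true (allB_true rng_b hk)).1)

theorem entI_le {k : ℕ} (hk : k < 135135) : entI k ≤ 13 :=
  Nat.le_of_ble_eq_true (andB_true (allB_true rng_b hk)).2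

theorem digOk_repc {j : ℕ} (hj : j < 10395) : digOk (repc j) = true := allB_true dig_b hj

/-! ### the elements -/

/-- the representative. -/
def repG (j : ℕ) : ↥SuzP := repE (repc j)

/-- the conjugate of a representative by a power of the element of order thirteen. -/
def yG (j i : ℕ) : ↥SuzP := (aG ^ i)⁻¹ * repG j * aG ^ i

theorem repG_apply {j : ℕ} (hj : j < 10395) (p : Fin nP) :
    ((repG j : Equiv.Perm (Fin nP)) p).val = repF (repc j) p.val :=
  repE_apply (digOk_repc hj) p

theorem yG_apply {j i : ℕ} (hj : j < 10395) (hi : i ≤ 13) (p : Fin nP) :
    ((yG j i : Equiv.Perm (Fin nP)) p).val = yC (repc j) i p.val := by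
  unfold yG yC
  rw [Subgroup.coe_mul, Subgroup.coe_mul, Equiv.Perm.mul_apply, Equiv.Perm.mul_apply,
    aG_pow_inv_apply hi, repG_apply hj, aG_pow_apply _ hi, sapp_eq]
  rfl

theorem repG_conj (j : ℕ) : ∃ g : ↥SuzP, g * bG * g⁻¹ = repG j := repEn_conj _ _

theorem yG_conj (j i : ℕ) : ∃ g : ↥SuzP, g * bG * g⁻¹ = yG j i := by
  obtain ⟨g, hg⟩ := repG_conj j
  refine ⟨(aG ^ i)⁻¹ * g, ?_⟩
  unfold yG
  rw [← hg]
  group

theorem sig_yG {j i : ℕ} (hj : j < 10395) (hi : i ≤ 13) : sigOf j i =
    ((yG j i : Equiv.Perm (Fin nP)) (⟨487, by norm_num⟩ : Fin nP)).val +
      4096 * (((yG j i : Equiv.Perm (Fin nP)) (⟨87, by norm_num⟩ : Fin nP)).val +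
        4096 * (((yG j i : Equiv.Perm (Fin nP)) (⟨1093, by norm_num⟩ : Fin nP)).val +
          4096 * ((yG j i : Equiv.Perm (Fin nP)) (⟨308, by norm_num⟩ : Fin nP)).val)) := by
  rw [yG_apply hj hi, yG_apply hj hi, yG_apply hj hi, yG_apply hj hi]
  unfold sigOf
  rw [sapp_eq]
  rfl

/-- the conjugate of an entry of the list. -/
def yK (k : ℕ) : ↥SuzP := yG (entJ k) (entI k)

theorem yK_inj {k k' : ℕ} (hk : k < 135135) (hk' : k' < 135135) (h : yK k = yK k') : k = k' := by
  apply inj_of_step (f := sigK) (m := 135135) ?_ hk hk'
  · rw [sigK_eq, sigK_eq, sig_yG (entJ_lt hk) (entI_le hk), sig_yG (entJ_lt hk') (entI_le hk')]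
    unfold yK at h
    rw [h]
  · intro j hj
    exact step_all (by omega)

/-- every conjugate of the first letter is in the list. -/
theorem exists_entry (hc : Nat.card ↥SuzP = 448345497600) (y : ↥SuzP)
    (hy : ∃ g : ↥SuzP, g * bG * g⁻¹ = y) : ∃ k, k < 135135 ∧ y = yK k := by
  have : Finite ↥SuzP := Nat.finite_of_card_ne_zero (by rw [hc]; norm_num)
  let f : Fin 135135 → {y : ↥SuzP // ∃ g : ↥SuzP, g * bG * g⁻¹ = y} :=
    fun k => ⟨yK k.val, yG_conj _ _⟩
  have hf : Function.Injective f := by
    intro k k' h
    exact Fin.ext (yK_inj k.isLt k'.isLt (congrArg Subtype.val h))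
  have hb : Function.Bijective f := by
    apply Function.Injective.bijective_of_nat_card_le hf
    rw [Nat.card_fin]
    have h3 : Nat.card {y : ↥SuzP // ∃ g : ↥SuzP, g * bG * g⁻¹ = y} =
        {y : ↥SuzP | ∃ g : ↥SuzP, g * bG * g⁻¹ = y}.ncard := rfl
    rw [h3]
    exact card_class_le hc
  obtain ⟨k, hk⟩ := hb.2 ⟨y, hy⟩
  exact ⟨k.val, k.isLt, (congrArg Subtype.val hk).symm⟩

/-- every conjugate of the first letter is conjugate under a power of the element of order
thirteen to a representative. -/
theorem exists_rep (hc : Nat.card ↥SuzP = 448345497600) (y : ↥SuzP)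
    (hy : ∃ g : ↥SuzP, g * bG * g⁻¹ = y) :
    ∃ i : ℕ, ∃ j, j < 10395 ∧ aG ^ i * y * (aG ^ i)⁻¹ = repG j := by
  obtain ⟨k, hk, rfl⟩ := exists_entry hc y hy
  refine ⟨entI k, entJ k, entJ_lt hk, ?_⟩
  unfold yK yG
  group

end Cfsg.Agent.Helper9.SuzO
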