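import Mathlib
import Cfsg.Prelude
import Cfsg.Agent.Helper9.SuzO.Norm
import Cfsg.Agent.Helper9.Out.OutLemma2

set_option autoImplicit false
set_option Elab.async false

/-! The outer automorphism group of the group of Suzuki on 1782 points has two elements. -/

namespace Cfsg.Agent.Helper9.SuzO

open Cfsg.Agent.Helper9.J3 Cfsg.Agent.Helper9.HeO Cfsg.Agent.Helper9.OutL
open Cfsg Cfsg.Spor

/-- the word of the fifth relation. -/
def w5 : List Bool := [true, true, false, true, true, true, true, true, true, true, false,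
  true, true, true, true, true, true, true, true, false]

/-- the relations of the element of order thirteen and the first letter. -/
def relsL : List (List Bool × ℕ) :=
  [([true, false], 11), ([true, true, false], 12), ([true, true, true, false], 11),
    ([true, true, true, true, false], 9), (w5, 4)]

/-- the image of a point under a power. -/
def powF (f : ℕ → ℕ) (e p : ℕ) : ℕ := Nat.rec p (fun _ acc => f acc) e

theorem pow_apply_val {σ : Equiv.Perm (Fin nP)} {f : ℕ → ℕ}
    (hf : ∀ p : Fin nP, (σ p).val = f p.val) (e : ℕ) (p : Fin nP) :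
    ((σ ^ e) p).val = powF f e p.val := by
  induction e with
  | zero => rfl
  | succ e ih =>
    rw [pow_succ', Equiv.Perm.mul_apply, hf, ih]
    rfl

theorem evalW_1 {X : Type*} [Monoid X] (a y : X) : evalW [true, false] a y = a ^ 1 * y := by
  unfold evalW
  simp

theorem evalW_2 {X : Type*} [Monoid X] (a y : X) : evalW [true, true, false] a y = a ^ 2 * y := by
  unfold evalW
  simp [pow_succ, mul_assoc]

theorem evalW_3 {X : Type*} [Monoid X] (a y : X) :
    evalW [true, true, true, false] a y = a ^ 3 * y := by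
  unfold evalW
  simp [pow_succ, mul_assoc]

theorem evalW_4 {X : Type*} [Monoid X] (a y : X) :
    evalW [true, true, true, true, false] a y = a ^ 4 * y := by
  unfold evalW
  simp [pow_succ, mul_assoc]

theorem evalW_5 {X : Type*} [Monoid X] (a y : X) :
    evalW w5 a y = a ^ 2 * y * (a ^ 7 * y) * (a ^ 8 * y) := by
  unfold evalW w5
  simp [pow_succ, mul_assoc]

/-- the image of a point under the product of a power of the element of order thirteen and
a second element. -/
def sylF (k : ℕ) (g : ℕ → ℕ) (x : ℕ) : ℕ := aF k (g x)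

/-- the image of a point under the element of the fifth relation. -/
def triF (g : ℕ → ℕ) (x : ℕ) : ℕ := sylF 2 g (sylF 7 g (sylF 8 g x))

theorem syl_apply {k : ℕ} (hk : k ≤ 13) {y : ↥SuzP} {g : ℕ → ℕ}
    (hg : ∀ p : Fin nP, ((y : Equiv.Perm (Fin nP)) p).val = g p.val) (p : Fin nP) :
    (((aG ^ k * y : ↥SuzP) : Equiv.Perm (Fin nP)) p).val = sylF k g p.val := by
  rw [Subgroup.coe_mul, Equiv.Perm.mul_apply, aG_pow_apply k hk, hg]
  rfl

theorem tri_apply {y : ↥SuzP} {g : ℕ → ℕ}
    (hg : ∀ p : Fin nP, ((y : Equiv.Perm (Fin nP)) p).val = g p.val) (p : Fin nP) :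
    (((aG ^ 2 * y * (aG ^ 7 * y) * (aG ^ 8 * y) : ↥SuzP) : Equiv.Perm (Fin nP)) p).val =
      triF g p.val := by
  rw [Subgroup.coe_mul, Equiv.Perm.mul_apply, Subgroup.coe_mul, Equiv.Perm.mul_apply,
    syl_apply (by norm_num) hg, syl_apply (by norm_num) hg, syl_apply (by norm_num) hg]
  rfl

/-- a relation in terms of the images of the points. -/
theorem rel_pointwise {z : ↥SuzP} {f : ℕ → ℕ}
    (hf : ∀ p : Fin nP, ((z : Equiv.Perm (Fin nP)) p).val = f p.val) (o : ℕ)
    (h : z ^ o = 1) (p : Fin nP) : powF f o p.val = p.val := by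
  have h1 := pow_apply_val (σ := (z : Equiv.Perm (Fin nP))) hf o p
  rw [← Subgroup.coe_pow, h] at h1
  exact h1.symm

theorem rel_of_pointwise {z : ↥SuzP} {f : ℕ → ℕ}
    (hf : ∀ p : Fin nP, ((z : Equiv.Perm (Fin nP)) p).val = f p.val) (o : ℕ)
    (h : allB (fun x => Nat.beq (powF f o x) x) nP = true) : z ^ o = 1 := by
  apply Subtype.ext
  apply perm_ext
  intro p
  rw [Subgroup.coe_pow, pow_apply_val hf o p]
  exact Nat.eq_of_beq_eq_true (allB_true h p.isLt)

set_option maxRecDepth 1000000 in
theorem hrel1_b : allB (fun x => Nat.beq (powF (sylF 1 (tabF 0)) 11 x) x) nP = true := by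
  decide +kernel

set_option maxRecDepth 1000000 in
theorem hrel2_b : allB (fun x => Nat.beq (powF (sylF 2 (tabF 0)) 12 x) x) nP = true := by
  decide +kernel

set_option maxRecDepth 1000000 in
theorem hrel3_b : allB (fun x => Nat.beq (powF (sylF 3 (tabF 0)) 11 x) x) nP = true := by
  decide +kernel

set_option maxRecDepth 1000000 in
theorem hrel4_b : allB (fun x => Nat.beq (powF (sylF 4 (tabF 0)) 9 x) x) nP = true := by
  decide +kernel

set_option maxRecDepth 1000000 in
theorem hrel5_b : allB (fun x => Nat.beq (powF (triF (tabF 0)) 4 x) x) nP = true := by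
  decide +kernel

theorem mem_relsL {e : List Bool × ℕ} (he : e ∈ relsL) :
    e = ([true, false], 11) ∨ e = ([true, true, false], 12) ∨
      e = ([true, true, true, false], 11) ∨ e = ([true, true, true, true, false], 9) ∨
        e = (w5, 4) := by
  unfold relsL at he
  simpa using he

/-- the relations hold for the element of order thirteen and the first letter. -/
theorem hrels : ∀ e ∈ relsL, evalW e.1 aG bG ^ e.2 = 1 := by
  intro e he
  rcases mem_relsL he with rfl | rfl | rfl | rfl | rfl
  · rw [evalW_1]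
    exact rel_of_pointwise (syl_apply (by norm_num) bG_apply) 11 hrel1_b
  · rw [evalW_2]
    exact rel_of_pointwise (syl_apply (by norm_num) bG_apply) 12 hrel2_b
  · rw [evalW_3]
    exact rel_of_pointwise (syl_apply (by norm_num) bG_apply) 11 hrel3_b
  · rw [evalW_4]
    exact rel_of_pointwise (syl_apply (by norm_num) bG_apply) 9 hrel4_b
  · rw [evalW_5]
    exact rel_of_pointwise (tri_apply bG_apply) 4 hrel5_b

/-- the entry of the witnesses of the failing relations. -/
def tst (j : ℕ) : ℕ := lkF 16 65535 (nthL tstL (Nat.shiftRight j 10)) (Nat.land j 1023)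

/-- the image of a point under the power of a relation. -/
def relF (r : ℕ) (g : ℕ → ℕ) (pt : ℕ) : ℕ :=
  Nat.rec (powF (sylF 1 g) 11 pt) (fun r1 _ => Nat.rec (powF (sylF 2 g) 12 pt)
    (fun r2 _ => Nat.rec (powF (sylF 3 g) 11 pt) (fun r3 _ => Nat.rec (powF (sylF 4 g) 9 pt)
      (fun _ _ => powF (triF g) 4 pt) r3) r2) r1) r

/-- the check that a representative other than the first letter fails a relation. -/
def testChk (j : ℕ) : Bool :=
  orB (orB (Nat.beq j 0) (Nat.ble 10395 j)) (sapp (fun t => sapp (fun c =>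
    sapp (fun r => sapp (fun pt =>
      andB (Nat.ble r 4) (andB (Nat.ble pt 1781) (notB (Nat.beq (relF r (repF c) pt) pt))))
    (Nat.shiftRight t 3)) (Nat.land t 7)) (repc j)) (tst j))

set_option maxRecDepth 1000000 in
theorem test_b0 : allC testChk 0 2048 = true := by decide +kernel

set_option maxRecDepth 1000000 in
theorem test_b1 : allC testChk 1 2048 = true := by decide +kernel

set_option maxRecDepth 1000000 in
theorem test_b2 : allC testChk 2 2048 = true := by decide +kernel

set_option maxRecDepth 1000000 in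
theorem test_b3 : allC testChk 3 2048 = true := by decide +kernel

set_option maxRecDepth 1000000 in
theorem test_b4 : allC testChk 4 2048 = true := by decide +kernel

set_option maxRecDepth 1000000 in
theorem test_b5 : allC testChk 5 2048 = true := by decide +kernel

theorem test_b {j : ℕ} (hj : j < 10395) : testChk j = true := by
  refine allC_true (K := 6) (c := 2048) ?_ (by omega)
  intro i hi
  interval_cases i
  · exact test_b0
  · exact test_b1
  · exact test_b2
  · exact test_b3
  · exact test_b4
  · exact test_b5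

/-- the representatives of the conjugates of the first letter. -/
def Cand : Set ↥SuzP := {g | ∃ j, j < 10395 ∧ g = repG j}

theorem repG_zero : repG 0 = bG := by
  have h0 : repc 0 = 0 := by decide +kernel
  unfold repG
  rw [h0]
  rfl

theorem htest : ∀ b' ∈ Cand, (∀ e ∈ relsL, evalW e.1 aG b' ^ e.2 = 1) →
    ∃ i : ℕ, b' = aG ^ i * bG * (aG ^ i)⁻¹ := by
  rintro b' ⟨j, hj, rfl⟩ hr
  rcases orB_true (test_b hj) with h0 | h1
  · rcases orB_true h0 with h0 | h0
    · refine ⟨0, ?_⟩
      rw [Nat.eq_of_beq_eq_true h0, repG_zero, pow_zero, one_mul, inv_one, mul_one]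
    · have := Nat.le_of_ble_eq_true h0
      omega
  · exfalso
    rw [sapp_eq, sapp_eq, sapp_eq, sapp_eq] at h1
    obtain ⟨hr4, h1⟩ := andB_true h1
    obtain ⟨hpt, h1⟩ := andB_true h1
    have hr4' := Nat.le_of_ble_eq_true hr4
    have hpt' : Nat.shiftRight (tst j) 3 < nP := Nat.lt_succ_of_le (Nat.le_of_ble_eq_true hpt)
    have h2 := notB_true h1
    have hm : ∀ e : List Bool × ℕ, e ∈ relsL → evalW e.1 aG (repG j) ^ e.2 = 1 := hr
    have e1 := hm ([true, false], 11) (by unfold relsL; simp)
    have e2 := hm ([true, true, false], 12) (by unfold relsL; simp)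
    have e3 := hm ([true, true, true, false], 11) (by unfold relsL; simp)
    have e4 := hm ([true, true, true, true, false], 9) (by unfold relsL; simp)
    have e5 := hm (w5, 4) (by unfold relsL; simp)
    rw [evalW_1] at e1
    rw [evalW_2] at e2
    rw [evalW_3] at e3
    rw [evalW_4] at e4
    rw [evalW_5] at e5
    have k1 := rel_pointwise (syl_apply (by norm_num) (repG_apply hj)) 11 e1 ⟨_, hpt'⟩
    have k2 := rel_pointwise (syl_apply (by norm_num) (repG_apply hj)) 12 e2 ⟨_, hpt'⟩
    have k3 := rel_pointwise (syl_apply (by norm_num) (repG_apply hj)) 11 e3 ⟨_, hpt'⟩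
    have k4 := rel_pointwise (syl_apply (by norm_num) (repG_apply hj)) 9 e4 ⟨_, hpt'⟩
    have k5 := rel_pointwise (tri_apply (repG_apply hj)) 4 e5 ⟨_, hpt'⟩
    generalize hrv : Nat.land (tst j) 7 = r at hr4' h2
    interval_cases r
    · change Nat.beq (powF (sylF 1 (repF (repc j))) 11 _) _ = false at h2
      rw [k1, Nat.beq_refl] at h2
      exact Bool.noConfusion h2
    · change Nat.beq (powF (sylF 2 (repF (repc j))) 12 _) _ = false at h2
      rw [k2, Nat.beq_refl] at h2
      exact Bool.noConfusion h2
    · change Nat.beq (powF (sylF 3 (repF (repc j))) 11 _) _ = false at h2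
      rw [k3, Nat.beq_refl] at h2
      exact Bool.noConfusion h2
    · change Nat.beq (powF (sylF 4 (repF (repc j))) 9 _) _ = false at h2
      rw [k4, Nat.beq_refl] at h2
      exact Bool.noConfusion h2
    · change Nat.beq (powF (triF (repF (repc j))) 4 _) _ = false at h2
      rw [k5, Nat.beq_refl] at h2
      exact Bool.noConfusion h2

theorem card_SuzP (h : IsSuz Suz) : Nat.card ↥SuzP = 448345497600 := (isSuz_SuzP h).2

theorem factorization_two (hc : Nat.card ↥SuzP = 448345497600) :
    Nat.card (SH 13) = 2 ^ (Nat.card ↥SuzP).factorization 2 := by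
  rw [card_SH, hc]
  have h1 : (448345497600 : ℕ) = 2 ^ 13 * 54729675 := by norm_num
  rw [h1, Nat.factorization_mul (by norm_num) (by norm_num)]
  simp only [Finsupp.coe_add, Pi.add_apply]
  rw [Nat.factorization_eq_zero_of_not_dvd (n := 54729675) (by norm_num)]
  have : (2 ^ 13).factorization 2 = 13 := by
    rw [Nat.factorization_pow]
    simp [Nat.Prime.factorization_self Nat.prime_two]
  rw [this]
  norm_num

theorem hCand (h : IsSuz Suz) (β : MulAut ↥SuzP) :
    ∃ i : ℕ, aG ^ i * β bG * (aG ^ i)⁻¹ ∈ Cand := by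
  have hc := card_SuzP h
  have : Finite ↥SuzP := Nat.finite_of_card_ne_zero (by rw [hc]; norm_num)
  have hconj : ∃ g : ↥SuzP, g * bG * g⁻¹ = β bG :=
    aut_conj_of_center (SH 13) (factorization_two hc) bG bG_mem bG_ne_one
      (fun y hy => bG_comm hy) (fun x hx hcx => center_SH hx hcx) β
  obtain ⟨i, j, hj, e⟩ := exists_rep hc _ hconj
  exact ⟨i, j, hj, e⟩

theorem hK0aux : ∀ k < 13, 0 < k → ∃ j < 6, ∃ k0 ∈ [1, 7], (k * 10 ^ j) % 13 = k0 % 13 := by
  decide

theorem hK0 : ∀ k, 0 < k → k < 13 → ∃ j : ℕ, ∃ k0 ∈ [1, 7], (k * 10 ^ j) % 13 = k0 % 13 := by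
  intro k h0 h13
  obtain ⟨j, -, h⟩ := hK0aux k h13 h0
  exact ⟨j, h⟩

/-- the outer automorphism group has two elements. -/
theorem out_card (h : IsSuz Suz) : Nat.card (Cfsg.Out ↥SuzP) = 2 := by
  have hc := card_SuzP h
  have : Finite ↥SuzP := Nat.finite_of_card_ne_zero (by rw [hc]; norm_num)
  have : Fact (Nat.Prime 13) := ⟨by norm_num⟩
  have hnd : ¬ 13 ^ 2 ∣ Nat.card ↥SuzP := by
    rw [hc]
    decide
  apply card_out_eq_two tau tau_not_inner
  intro α
  exact inner_or_tau 13 aG bG nG 10 closure_aG_bG order_aG hnd conj_nG tau 2 7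
    tau_aG (by norm_num) hK0 Cand (hCand h) relsL hrels htest α

/-- the outer automorphism group of the presented group of Suzuki has two elements. -/
theorem out_card_Suz (h : IsSuz Suz) : Nat.card (Cfsg.Out Suz) = 2 := by
  obtain ⟨e⟩ := SuzP_iso h.1
  rw [card_out_congr e]
  exact out_card h

end Cfsg.Agent.Helper9.SuzO
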